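import Mathlib
import Groth.Agent.Abvar.Seesaw.Core

/-!
Modules which are cyclic after inverting an element, and their duals.
-/

set_option autoImplicit false

universe u

open scoped TensorProduct

namespace Groth.ThetaRep

variable {R : Type u} [CommRing R] {Q : Type u} [AddCommGroup Q] [Module R Q]
variable {C : Type u} [CommRing C] [Algebra R C]

/-- The linear form with value one at a generator, when the annihilator dies and the denominator is a unit. -/
theorem exists_form_eq_one {q₁ : Q} {f : R} (hf : ∀ q : Q, ∃ a : R, f • q = a • q₁)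
    (hu : IsUnit (algebraMap R C f)) (hI : ∀ a : R, a • q₁ = 0 → algebraMap R C a = 0) :
    ∃ φ₁ : Q →ₗ[R] C, φ₁ q₁ = 1 ∧ ∀ φ : Q →ₗ[R] C, φ = LinearMap.mulLeft R (φ q₁) ∘ₗ φ₁ := by
  obtain ⟨v, hv⟩ := hu.exists_left_inv
  choose a ha using hf
  have key : ∀ (r : R) (q : Q), f • q = r • q₁ → algebraMap R C (a q) = algebraMap R C r := fun r q h => by
    rw [← sub_eq_zero, ← map_sub]
    exact hI _ (by rw [sub_smul, ← ha, h, sub_self])
  let φ₁ : Q →ₗ[R] C :=
    { toFun := fun q => algebraMap R C (a q) * v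
      map_add' := fun q q' => by
        rw [key (a q + a q') (q + q') (by rw [smul_add, ha, ha, add_smul]), map_add, add_mul]
      map_smul' := fun r q => by
        rw [key (r * a q) (r • q) (by rw [smul_comm, ha, mul_smul]), map_mul, RingHom.id_apply,
          Algebra.smul_def, mul_assoc] }
  refine ⟨φ₁, ?_, fun φ => LinearMap.ext fun q => ?_⟩
  · show algebraMap R C (a q₁) * v = 1
    rw [key f q₁ rfl, mul_comm, hv]
  · show φ q = φ q₁ * (algebraMap R C (a q) * v)
    have h := congrArg φ (ha q)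
    rw [map_smul, map_smul, Algebra.smul_def, Algebra.smul_def] at h
    linear_combination v * h - φ q * hv

/-- A form with value the square of the denominator at a generator, when some form is free. -/
theorem exists_form_eq_sq {q₁ : Q} {g : R} (hg : ∀ q : Q, ∃ a : R, g • q = a • q₁) {φ' : Q →ₗ[R] R}
    (hfree : ∀ c : R, c • φ' = 0 → c = 0) : ∃ ψ : Q →ₗ[R] R, ψ q₁ = g * g := by
  choose a ha using hg
  have key : ∀ (r : R) (q : Q), g • q = r • q₁ → g * a q = g * r := fun r q h => by
    refine sub_eq_zero.1 (hfree _ (LinearMap.ext fun p => ?_))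
    have hd : (a q - r) • q₁ = 0 := by rw [sub_smul, ← ha, h, sub_self]
    have h1 : φ' ((a q - r) • g • p) = 0 := by rw [ha, smul_comm, hd, smul_zero, map_zero]
    rw [map_smul, map_smul, smul_smul] at h1
    rw [LinearMap.zero_apply, LinearMap.smul_apply, smul_eq_mul, ← h1, smul_eq_mul]
    ring
  refine ⟨{ toFun := fun q => g * a q, map_add' := fun q q' => ?_, map_smul' := fun r q => ?_ }, ?_⟩
  · rw [key (a q + a q') (q + q') (by rw [smul_add, ha, ha, add_smul]), mul_add]
  · rw [key (r * a q) (r • q) (by rw [smul_comm, ha, mul_smul]), RingHom.id_apply, smul_eq_mul]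
    ring
  · exact key g q₁ rfl

/-- A finite module with one dimensional dual at a prime is cyclic near it. -/
theorem exists_cyclic_near [Module.Finite R Q] (x : PrimeSpectrum R) {K : Type u} [Field K] [Algebra R K]
    (hK : RingHom.ker (algebraMap R K) = x.asIdeal) {φ₀ : Q →ₗ[R] K} (hne : φ₀ ≠ 0)
    (hall : ∀ φ : Q →ₗ[R] K, ∃ b : K, φ = LinearMap.mulLeft R b ∘ₗ φ₀) :
    ∃ (q₁ : Q) (f : R), f ∉ x.asIdeal ∧ φ₀ q₁ ≠ 0 ∧ ∀ q : Q, ∃ a : R, f • q = a • q₁ := by
  obtain ⟨q₁, hq₁⟩ : ∃ q, φ₀ q ≠ 0 := by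
    by_contra h
    push Not at h
    exact hne (LinearMap.ext h)
  let N := Q ⧸ Submodule.span R {q₁}
  have hN : Subsingleton (N →ₗ[R] K) := subsingleton_of_forall_eq 0 fun ψ => by
    obtain ⟨b, hb⟩ := hall (ψ ∘ₗ (Submodule.span R {q₁}).mkQ)
    have h0 : (Submodule.span R {q₁}).mkQ q₁ = 0 :=
      (Submodule.Quotient.mk_eq_zero _).2 (Submodule.mem_span_singleton_self q₁)
    have h1 : b * φ₀ q₁ = 0 := by
      have := LinearMap.congr_fun hb q₁
      rw [LinearMap.comp_apply, h0, map_zero] at this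
      exact this.symm
    have hb0 : b = 0 := (mul_eq_zero.1 h1).resolve_right hq₁
    refine Submodule.linearMap_qext _ ?_
    rw [hb, hb0, LinearMap.zero_comp]
    exact LinearMap.ext fun q => zero_mul _
  have hs : x ∉ Module.support R N := fun h => by
    refine (Groth.Abvar.Seesaw.mem_support_iff_finrank x K hK).1 h ?_
    rw [← Subspace.dual_finrank_eq, Module.finrank_zero_iff]
    exact (LinearMap.liftBaseChangeEquiv K (N := K) (M := N)).symm.toEquiv.subsingleton
  rw [Module.support_eq_zeroLocus, PrimeSpectrum.mem_zeroLocus, Set.not_subset] at hs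
  obtain ⟨f, hf, hfx⟩ := hs
  refine ⟨q₁, f, hfx, hq₁, fun q => ?_⟩
  have h : f • (Submodule.Quotient.mk q : N) = 0 := Module.mem_annihilator.1 hf _
  rw [← Submodule.Quotient.mk_smul, Submodule.Quotient.mk_eq_zero, Submodule.mem_span_singleton] at h
  exact ⟨h.choose, h.choose_spec.symm⟩

end Groth.ThetaRep
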