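import Mathlib
import Groth.Agent.PicAux.BaseChangeModel
import Groth.Agent.PicAux.SeesawAnyBase
import Groth.Agent.ThetaRep.CyclicMod

/-!
The locus where a family of invertible modules is trivial is locally a closed subscheme of the base.
-/

set_option autoImplicit false

universe u

open CategoryTheory CategoryTheory.Limits AlgebraicGeometry TopologicalSpace Opposite
open Groth.PicAux (Gen res pullSec)
open Groth.Abvar.Seesaw

noncomputable section

namespace Groth.ThetaRep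

/-- The pullback of a module is trivial. -/
def PullTriv {P X : Scheme.{u}} (g : X ⟶ P) (E : P.Modules) : Prop :=
  Nonempty ((Scheme.Modules.pullback g).obj E ≅ Coh.structureModule X)

theorem pullTriv_iff {P X : Scheme.{u}} (g : X ⟶ P) (E : P.Modules) :
    PullTriv g E ↔ ∃ σ : Γ((Scheme.Modules.pullback g).obj E, ⊤), Gen _ ⊤ σ :=
  PicAux.nonempty_iso_structure_iff

theorem pullTriv_of_isEmpty {P X : Scheme.{u}} [IsEmpty X] (g : X ⟶ P) {E : P.Modules}
    (hE : PicF.IsInvertible E) : PullTriv g E :=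
  (Groth.Abvar.PicCalc.nonempty_iso_structure_iff (PicAux.isInvertible_pullback g hE)).2
    (Groth.Abvar.PicCalc.eq_one_of_subsingleton _)

/-- Constants as functions. -/
abbrev glob {X : Scheme.{u}} {A : Type u} [CommRing A] (q : X ⟶ Spec (CommRingCat.of A)) : A →+* Γ(X, ⊤) :=
  Coh.toGlobal q

variable {R : Type u} [CommRing R] {P : Scheme.{u}} (π : P ⟶ Spec (CommRingCat.of R))

/-- The sections of all base changes to affine schemes are corepresented. -/
theorem exists_rep_top [IsNoetherianRing R] [IsProper π] [Flat π] {E : P.Modules}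
    (hE : PicF.IsInvertible E) :
    ∃ (Q : ModuleCat.{u} R) (_ : Module.Finite R Q) (θ₀ : (Q →ₗ[R] R) → Γ(E, ⊤)),
      Function.Bijective θ₀ ∧
      (∀ (a : R) φ, θ₀ (LinearMap.mulLeft R a ∘ₗ φ) = glob π a • θ₀ φ) ∧
      ∀ (C : Type u) [CommRing C] [Algebra R C] (X : Scheme.{u}) (g : X ⟶ P) (q : X ⟶ Spec (CommRingCat.of C)),
        IsPullback g q π (Spec.map (CommRingCat.ofHom (algebraMap R C))) →
        ∃ θ : (Q →ₗ[R] C) → Γ((Scheme.Modules.pullback g).obj E, ⊤), Function.Bijective θ ∧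
          (∀ (b : C) φ, θ (LinearMap.mulLeft R b ∘ₗ φ) = glob q b • θ φ) ∧
          ∀ φ : Q →ₗ[R] R, θ (Algebra.linearMap R C ∘ₗ φ) = pullSec g E (θ₀ φ) := by
  letI : P.Over (Spec (CommRingCat.of R)) := ⟨π⟩
  have : IsProper (P ↘ Spec (CommRingCat.of R)) := ‹IsProper π›
  obtain ⟨Q, hQ, θ₀, h0, hlin, hB⟩ := Groth.PicAux.BC.exists_rep R (F := E)
    ⟨PicAux.isQCoh_of_isInvertible hE, Ega2Proj.isFT_of_isInvertible hE⟩ (isFlatOver_of_isInvertible π hE)
  refine ⟨Q, hQ, θ₀, h0, fun a φ => (hlin a φ).trans (congrArg (· • θ₀ φ) (PicAux.resX_self _ _)),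
    fun C _ _ X g q sq => ?_⟩
  obtain ⟨θ, h1, h2, h3⟩ := @hB C _ _ X g q sq
  exact ⟨θ, h1, fun b φ => (h2 b φ).trans (congrArg (· • θ φ) (PicAux.resX_self _ _)), h3⟩

/-- A trivial module makes the annihilator of a generator vanish. -/
theorem annihilator_eq_zero {Q : Type u} [AddCommGroup Q] [Module R Q] {C : Type u} [CommRing C]
    [Algebra R C] {X : Scheme.{u}} {M : X.Modules} {q : X ⟶ Spec (CommRingCat.of C)}
    (hq : Function.Bijective (Coh.toGlobal q)) {θ : (Q →ₗ[R] C) → Γ(M, ⊤)} (hθ : Function.Bijective θ)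
    (hlin : ∀ (b : C) φ, θ (LinearMap.mulLeft R b ∘ₗ φ) = glob q b • θ φ)
    {σ : Γ(M, ⊤)} (hσ : Gen M ⊤ σ) {q₁ : Q} {f : R} (hf : ∀ x : Q, ∃ a : R, f • x = a • q₁)
    (hu : IsUnit (algebraMap R C f)) (a : R) (ha : a • q₁ = 0) : algebraMap R C a = 0 := by
  obtain ⟨φ, hφ⟩ := hθ.2 σ
  have h : LinearMap.mulLeft R (algebraMap R C a) ∘ₗ φ = LinearMap.mulLeft R (0 : C) ∘ₗ φ := by
    refine LinearMap.ext fun x => hu.mul_left_cancel ?_
    obtain ⟨b, hb⟩ := hf x
    show _ * (algebraMap R C a * φ x) = _ * (0 * φ x)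
    rw [zero_mul, mul_zero, ← mul_assoc, mul_comm (algebraMap R C f), mul_assoc,
      ← Algebra.smul_def f, ← map_smul, hb, ← Algebra.smul_def, ← map_smul, smul_comm, ha, smul_zero,
      map_zero]
  have h1 := congrArg θ h
  rw [hlin, hlin, hφ] at h1
  refine hq.1 (hσ.smul_inj le_rfl ?_)
  rw [PicAux.res_self]
  exact h1

variable [IsNoetherianRing R] [IsProper π] [Flat π] [LocallyOfFinitePresentation π]
  [GeometricallyReduced π] [GeometricallyConnected π] {E : P.Modules}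

/-- Near a point with trivial fibre, triviality is the vanishing of an ideal. -/
theorem exists_ideal_of_fibTriv (hE : PicF.IsInvertible E)
    (hH : ∀ (C : Type u) [CommRing C] [Algebra R C] (X : Scheme.{u}) (g : X ⟶ P) (q : X ⟶ Spec (CommRingCat.of C)),
      IsPullback g q π (Spec.map (CommRingCat.ofHom (algebraMap R C))) → Function.Bijective (Coh.toGlobal q))
    (x : PrimeSpectrum R) (hx : FibTriv π E x) :
    ∃ (h : R) (I : Ideal R), h ∉ x.asIdeal ∧ ∀ (C : Type u) [CommRing C] [Algebra R C] (X : Scheme.{u})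
      (g : X ⟶ P) (q : X ⟶ Spec (CommRingCat.of C)),
      IsPullback g q π (Spec.map (CommRingCat.ofHom (algebraMap R C))) → IsUnit (algebraMap R C h) →
        (PullTriv g E ↔ I ≤ RingHom.ker (algebraMap R C)) := by
  obtain ⟨Q, hQ, θ₀, -, -, hB⟩ := exists_rep_top π hE
  letI := resAlgebra x
  obtain ⟨θx, hθx, hlinx, -⟩ := @hB ((Spec (CommRingCat.of R)).residueField x) _ (resAlgebra x) _ _ _ (isPullback_fibre π x)
  obtain ⟨σ, hσ⟩ := PicAux.nonempty_iso_structure_iff.1 hx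
  have h0 : H0Const π x := h0Const_of_geometrically π x
  have : Nonempty (π.fiber x) := nonempty_of_toGlobal_bijective (K := (Spec (CommRingCat.of R)).residueField x) h0
  obtain ⟨φ₀, hφ₀⟩ := hθx.2 σ
  have hne : φ₀ ≠ 0 := fun h => by
    have h2 := congrArg θx (show LinearMap.mulLeft R (0 : (Spec (CommRingCat.of R)).residueField x) ∘ₗ φ₀ = φ₀ by
      rw [h, LinearMap.comp_zero])
    rw [hlinx, map_zero, hφ₀] at h2
    exact gen_top_ne_zero hσ (h2.symm.trans (zero_smul _ σ))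
  obtain ⟨q₁, f, hfx, hq₁, hf⟩ := exists_cyclic_near x (ker_resAlgebra x) hne fun φ => by
    obtain ⟨r, hr⟩ := hσ.exists_coeff le_rfl (θx φ)
    rw [PicAux.res_self] at hr
    obtain ⟨b, rfl⟩ := h0.2 r
    exact ⟨b, hθx.1 (by rw [hlinx, hφ₀]; exact hr)⟩
  let I : Ideal R := LinearMap.ker (LinearMap.toSpanSingleton R Q q₁)
  have hI : ∀ a : R, a ∈ I ↔ a • q₁ = 0 := fun a => Iff.rfl
  have huf : IsUnit (algebraMap R ((Spec (CommRingCat.of R)).residueField x) f) :=
    isUnit_iff_ne_zero.2 fun h => hfx ((ker_resAlgebra x).le h)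
  have hIx : ∀ a ∈ I, algebraMap R ((Spec (CommRingCat.of R)).residueField x) a = 0 := fun a ha =>
    annihilator_eq_zero h0 hθx hlinx hσ hf huf a ((hI a).1 ha)
  -- the closed subscheme of `D(f)`
  let C₀ := Localization.Away f ⧸ I.map (algebraMap R (Localization.Away f))
  have huf₀ : IsUnit (algebraMap R C₀ f) := by
    rw [IsScalarTower.algebraMap_apply R (Localization.Away f) C₀]
    exact (IsLocalization.Away.algebraMap_isUnit f).map _
  have hI₀ : ∀ a : R, a • q₁ = 0 → algebraMap R C₀ a = 0 := fun a ha => by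
    rw [IsScalarTower.algebraMap_apply R (Localization.Away f) C₀]
    exact Ideal.Quotient.eq_zero_iff_mem.2 (Ideal.mem_map_of_mem _ ((hI a).2 ha))
  have hlift : ∀ (C : Type u) [CommRing C] [Algebra R C], IsUnit (algebraMap R C f) →
      (∀ a ∈ I, algebraMap R C a = 0) → ∃ e : C₀ →+* C, ∀ a, e (algebraMap R C₀ a) = algebraMap R C a := by
    intro C _ _ hu hv
    refine ⟨Ideal.Quotient.lift _ (IsLocalization.Away.lift f hu) (fun a ha => ?_), fun a => ?_⟩
    · refine (Ideal.map_le_iff_le_comap (K := RingHom.ker (IsLocalization.Away.lift f hu))).2 ?_ ha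
      intro b hb
      rw [Ideal.mem_comap, RingHom.mem_ker, IsLocalization.Away.lift_eq]
      exact hv b hb
    · rw [IsScalarTower.algebraMap_apply R (Localization.Away f) C₀]
      exact IsLocalization.Away.lift_eq f hu a
  haveI : IsNoetherianRing (Localization.Away f) :=
    IsLocalization.isNoetherianRing (Submonoid.powers f) _ inferInstance
  let b₀ := Spec.map (CommRingCat.ofHom (algebraMap R C₀))
  let g₀ := pullback.fst π b₀
  let π₀ := pullback.snd π b₀
  have sq₀ : IsPullback g₀ π₀ π b₀ := IsPullback.of_hasPullback _ _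
  have : IsProper π₀ := MorphismProperty.of_isPullback sq₀ ‹_›
  have : Flat π₀ := MorphismProperty.of_isPullback sq₀ ‹_›
  have : LocallyOfFinitePresentation π₀ := MorphismProperty.of_isPullback sq₀ ‹_›
  have : GeometricallyReduced π₀ := MorphismProperty.of_isPullback sq₀ ‹_›
  have : GeometricallyConnected π₀ := MorphismProperty.of_isPullback sq₀ ‹_›
  let E₀ := (Scheme.Modules.pullback g₀).obj E
  have hE₀ : PicF.IsInvertible E₀ := PicAux.isInvertible_pullback g₀ hE
  obtain ⟨θ₁, hθ₁, hlin₁, -⟩ := @hB C₀ _ _ _ _ _ sq₀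
  obtain ⟨φ₁, hφ₁, hall⟩ := exists_form_eq_one hf huf₀ hI₀
  -- the point over `x`
  obtain ⟨e, he⟩ := hlift _ huf hIx
  let x₀ : PrimeSpectrum C₀ := ⟨RingHom.ker e, RingHom.ker_isPrime e⟩
  have hmem : ∀ a : R, algebraMap R C₀ a ∈ x₀.asIdeal ↔ a ∈ x.asIdeal := fun a => by
    rw [← ker_resAlgebra x]
    show e _ = 0 ↔ _
    rw [he]
    rfl
  have hb₀ : b₀ x₀ = x := PrimeSpectrum.ext (Ideal.ext fun a => hmem a)
  have ht₀ : FibTriv (B := Spec (CommRingCat.of C₀)) π₀ E₀ x₀ :=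
    (Groth.PicAux.SeesawAnyBase.fibTriv_iff_of_isPullback sq₀ hE x₀).2 (by rw [hb₀]; exact hx)
  have h00 : H0Const (B := Spec (CommRingCat.of C₀)) π₀ x₀ := h0Const_of_geometrically π₀ x₀
  obtain ⟨Q₀, hQ₀, η₀, hη₀, hη₀lin, hB₀⟩ := exists_rep_top π₀ hE₀
  letI := resAlgebra (R := C₀) x₀
  obtain ⟨θy, hθy, hliny, hnat⟩ := @hB₀ ((Spec (CommRingCat.of C₀)).residueField x₀) _ (resAlgebra x₀) _ _ _ (isPullback_fibre π₀ x₀)
  have : Nonempty (π₀.fiber x₀) := nonempty_of_toGlobal_bijective (K := (Spec (CommRingCat.of C₀)).residueField x₀) h00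
  obtain ⟨τ, hτ⟩ := PicAux.nonempty_iso_structure_iff.1 ht₀
  obtain ⟨ψ₀, hψ₀⟩ := hθy.2 τ
  have hne₀ : ψ₀ ≠ 0 := fun h => by
    have h2 := congrArg θy (show LinearMap.mulLeft C₀ (0 : (Spec (CommRingCat.of C₀)).residueField x₀) ∘ₗ ψ₀ = ψ₀ by
      rw [h, LinearMap.comp_zero])
    rw [hliny, map_zero, hψ₀] at h2
    exact gen_top_ne_zero hτ (h2.symm.trans (zero_smul _ τ))
  obtain ⟨q₀, g, hgx, hq₀, hg⟩ := exists_cyclic_near x₀ (ker_resAlgebra x₀) hne₀ fun φ => by
    obtain ⟨r, hr⟩ := hτ.exists_coeff le_rfl (θy φ)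
    rw [PicAux.res_self] at hr
    obtain ⟨b, rfl⟩ := h00.2 r
    exact ⟨b, hθy.1 (by rw [hliny, hψ₀]; exact hr)⟩
  obtain ⟨φ', hφ'⟩ := hη₀.2 (θ₁ φ₁)
  obtain ⟨ψ, hψ⟩ := exists_form_eq_sq hg (φ' := φ') fun c hc => by
    have h1 : η₀ (LinearMap.mulLeft C₀ c ∘ₗ φ') = η₀ (LinearMap.mulLeft C₀ 0 ∘ₗ φ') := by
      refine congrArg η₀ (LinearMap.ext fun z => ?_)
      exact (LinearMap.congr_fun hc z).trans (zero_mul _).symm
    rw [hη₀lin, hη₀lin, hφ', ← hlin₁, ← hlin₁] at h1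
    have h2 := LinearMap.congr_fun (hθ₁.1 h1) q₁
    simpa [hφ₁] using h2
  have hz : θy 0 = 0 := by
    have h := hliny 0 0
    rw [LinearMap.comp_zero, map_zero] at h
    exact h.trans (zero_smul _ (θy 0))
  have hs : pullSec (π₀.fiberι x₀) E₀ (η₀ ψ) ≠ 0 := fun h => by
    rw [← hnat] at h
    have h1 : Algebra.linearMap C₀ ((Spec (CommRingCat.of C₀)).residueField x₀) ∘ₗ ψ = 0 :=
      hθy.1 (h.trans hz.symm)
    have h2 := LinearMap.congr_fun h1 q₀
    rw [LinearMap.comp_apply, hψ, LinearMap.zero_apply, Algebra.linearMap_apply] at h2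
    have h3 : g * g ∈ x₀.asIdeal := (ker_resAlgebra x₀).le h2
    exact (x₀.isPrime.mem_or_mem h3).elim hgx hgx
  obtain ⟨V, hxV, hV⟩ := exists_gen_nhd_of_ne_zero π₀ hE₀ (η₀ ψ) x₀ h00 ht₀ hs
  obtain ⟨_, ⟨_, ⟨c, rfl⟩, rfl⟩, hxc, hcV⟩ := PrimeSpectrum.isBasis_basic_opens.exists_subset_of_mem_open hxV V.isOpen
  obtain ⟨c', hc'⟩ := Ideal.Quotient.mk_surjective c
  obtain ⟨⟨r, ⟨_, n, rfl⟩⟩, hr⟩ := IsLocalization.surj (Submonoid.powers f) c'
  have hcr : c * algebraMap R C₀ (f ^ n) = algebraMap R C₀ r := by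
    rw [← hc', IsScalarTower.algebraMap_apply R (Localization.Away f) C₀ (f ^ n),
      IsScalarTower.algebraMap_apply R (Localization.Away f) C₀ r, ← hr, map_mul]
    rfl
  have hrx : r ∉ x.asIdeal := fun h => by
    have h1 := (hmem r).2 h
    rw [← hcr] at h1
    rcases x₀.isPrime.mem_or_mem h1 with h2 | h2
    · exact hxc h2
    · exact hfx (x.isPrime.mem_of_pow_mem n ((hmem _).1 h2))
  refine ⟨f * r, I, fun h => (x.isPrime.mem_or_mem h).elim hfx hrx, fun C _ _ X g' q sq hu => ?_⟩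
  rw [map_mul, IsUnit.mul_iff] at hu
  constructor
  · intro ht a ha
    obtain ⟨θ, hθ, hlin, -⟩ := @hB C _ _ _ _ _ sq
    obtain ⟨σ', hσ'⟩ := (pullTriv_iff g' E).1 ht
    exact annihilator_eq_zero (hH C X g' q sq) hθ hlin hσ' hf hu.1 a ((hI a).1 ha)
  · intro hv
    obtain ⟨e', he'⟩ := hlift C hu.1 fun a ha => hv ha
    have hd : Spec.map (CommRingCat.ofHom e') ≫ b₀ = Spec.map (CommRingCat.ofHom (algebraMap R C)) := by
      rw [← Spec.map_comp, ← CommRingCat.ofHom_comp]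
      exact congrArg (fun t => Spec.map (CommRingCat.ofHom t)) (RingHom.ext he')
    let m : X ⟶ pullback π b₀ := pullback.lift g' (q ≫ Spec.map (CommRingCat.ofHom e'))
      (by rw [Category.assoc, hd]; exact sq.w)
    have hm : (⊤ : X.Opens) ≤ m ⁻¹ᵁ (π₀ ⁻¹ᵁ V) := fun z _ => by
      show π₀ (m z) ∈ V
      refine hcV ?_
      have : π₀ (m z) = Spec.map (CommRingCat.ofHom e') (q z) := by
        rw [← Scheme.Hom.comp_apply, ← Scheme.Hom.comp_apply, pullback.lift_snd]
      rw [this]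
      show e' c ∉ (q z).asIdeal
      intro hc
      have h1 : e' (c * algebraMap R C₀ (f ^ n)) ∈ (q z).asIdeal := by
        rw [map_mul]
        exact (q z).asIdeal.mul_mem_right _ hc
      rw [hcr, he'] at h1
      exact (q z).isPrime.ne_top (Ideal.eq_top_of_isUnit_mem _ h1 hu.2)
    have hgen : ∃ σ' : Γ((Scheme.Modules.pullback m).obj E₀, ⊤), Gen _ ⊤ σ' := ⟨_, (hV.pull m).res hm⟩
    obtain ⟨i⟩ := PicAux.nonempty_iso_structure_iff.2 hgen
    exact ⟨(Scheme.Modules.pullbackCongr (pullback.lift_fst _ _ _).symm).app E ≪≫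
      ((Scheme.Modules.pullbackComp m g₀).app E).symm ≪≫ i⟩

/-- Triviality of the pullback is locally on the base the vanishing of an ideal. -/
theorem exists_ideal_near (hE : PicF.IsInvertible E)
    (hH : ∀ (C : Type u) [CommRing C] [Algebra R C] (X : Scheme.{u}) (g : X ⟶ P) (q : X ⟶ Spec (CommRingCat.of C)),
      IsPullback g q π (Spec.map (CommRingCat.ofHom (algebraMap R C))) → Function.Bijective (Coh.toGlobal q))
    (hcl : IsClosed {y | FibTriv π E y}) (x : PrimeSpectrum R) :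
    ∃ (h : R) (I : Ideal R), h ∉ x.asIdeal ∧ ∀ (C : Type u) [CommRing C] [Algebra R C] (X : Scheme.{u})
      (g : X ⟶ P) (q : X ⟶ Spec (CommRingCat.of C)),
      IsPullback g q π (Spec.map (CommRingCat.ofHom (algebraMap R C))) → IsUnit (algebraMap R C h) →
        (PullTriv g E ↔ I ≤ RingHom.ker (algebraMap R C)) := by
  by_cases hx : FibTriv π E x
  · exact exists_ideal_of_fibTriv π hE hH x hx
  obtain ⟨_, ⟨_, ⟨h, rfl⟩, rfl⟩, hxh, hh⟩ :=
    PrimeSpectrum.isBasis_basic_opens.exists_subset_of_mem_open hx hcl.isOpen_compl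
  refine ⟨h, ⊤, hxh, fun C _ _ X g q sq hu => ⟨fun ht a _ => ?_, fun hv => ?_⟩⟩
  · suffices hC : Subsingleton C from RingHom.mem_ker.2 (Subsingleton.elim _ _)
    by_contra hC
    rw [not_subsingleton_iff_nontrivial] at hC
    obtain ⟨y⟩ := (inferInstance : Nonempty (PrimeSpectrum C))
    have hy : FibTriv (B := Spec (CommRingCat.of C)) q ((Scheme.Modules.pullback g).obj E) y :=
      ⟨(Scheme.Modules.pullback _).mapIso ht.some ≪≫ (PicAux.pullback_structure_iso _).some⟩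
    have h1 := (Groth.PicAux.SeesawAnyBase.fibTriv_iff_of_isPullback sq hE y).1 hy
    refine hh ?_ h1
    show algebraMap R C h ∉ y.asIdeal
    exact fun hm => y.isPrime.ne_top (Ideal.eq_top_of_isUnit_mem _ hm hu)
  · have h1 : algebraMap R C 1 = 0 := RingHom.mem_ker.1 (hv Submodule.mem_top)
    rw [map_one] at h1
    have : Subsingleton C := subsingleton_of_zero_eq_one h1.symm
    have : IsEmpty X := ⟨fun z => IsEmpty.false (α := PrimeSpectrum C) (q z)⟩
    exact pullTriv_of_isEmpty g hE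

end Groth.ThetaRep
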