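import Mathlib

/-!
A Zariski local condition on morphisms into a quasi-compact scheme which is locally the vanishing of an ideal
is represented by a closed subscheme.
-/

set_option autoImplicit false

universe u

open CategoryTheory CategoryTheory.Limits AlgebraicGeometry TopologicalSpace Opposite

noncomputable section

namespace Groth.ThetaRep

variable {X : Scheme.{u}} (P : ∀ T : Scheme.{u}, (T ⟶ X) → Prop)
  (hpull : ∀ (T' T : Scheme.{u}) (f : T' ⟶ T) (z : T ⟶ X), P T z → P T' (f ≫ z))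
  (hloc : ∀ (T : Scheme.{u}) (z : T ⟶ X) (𝒰 : Scheme.OpenCover.{u} T), (∀ i, P (𝒰.X i) (𝒰.f i ≫ z)) → P T z)

include hpull hloc in
theorem of_affine_local {T : Scheme.{u}} (z : T ⟶ X)
    (h : ∀ t : T, ∃ W : T.Opens, ∃ hW : IsAffineOpen W, t ∈ W ∧ P _ (hW.fromSpec ≫ z)) : P T z := by
  choose W hW ht hP using h
  refine hloc T z (T.openCoverOfIsOpenCover W (eq_top_iff.2 fun t _ => Opens.mem_iSup.2 ⟨t, ht t⟩)) fun i => ?_
  change P _ ((W i).ι ≫ z)
  rw [← (hW i).isoSpec_hom_fromSpec, Category.assoc]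
  exact hpull _ _ _ _ (hP i)

include hpull hloc in
/-- A locally closed-representable condition is represented by a closed subscheme. -/
theorem exists_closed_rep [CompactSpace X] [QuasiSeparatedSpace X]
    (hnear : ∀ x : X, ∃ (V : X.Opens) (hV : IsAffineOpen V) (I : Ideal Γ(X, V)), x ∈ V ∧
      ∀ (C : CommRingCat.{u}) (φ : Γ(X, V) ⟶ C),
        P (Spec C) (Spec.map φ ≫ hV.fromSpec) ↔ I ≤ RingHom.ker φ.hom) :
    ∃ (Z : Scheme.{u}) (ι : Z ⟶ X), IsClosedImmersion ι ∧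
      ∀ (T : Scheme.{u}) (z : T ⟶ X), P T z ↔ ∃ y : T ⟶ Z, y ≫ ι = z := by
  choose V hV I hx hI using hnear
  obtain ⟨s, hs⟩ := isCompact_univ.elim_finite_subcover (fun x : X => (V x : Set X)) (fun x => (V x).2)
    fun x _ => Set.mem_iUnion.2 ⟨x, hx x⟩
  let R : s → CommRingCat.{u} := fun j => CommRingCat.of (Γ(X, V j.1) ⧸ I j.1)
  let mk : ∀ j, Γ(X, V j.1) ⟶ R j := fun j => CommRingCat.ofHom (Ideal.Quotient.mk _)
  let w : (∐ fun j => Spec (R j)) ⟶ X := Limits.Sigma.desc fun j => Spec.map (mk j) ≫ (hV j.1).fromSpec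
  have hPw : P _ w := hloc _ w (sigmaOpenCover fun j => Spec (R j)) fun j => by
    change P _ (Limits.Sigma.ι (fun j => Spec (R j)) j ≫ w)
    rw [Limits.Sigma.ι_desc]
    exact (hI j.1 _ _).2 (Ideal.mk_ker (I := I j.1)).ge
  -- the ideal of the image contains each local ideal
  have hker : ∀ j : s, I j.1 ≤ w.ker.ideal ⟨V j.1, hV j.1⟩ := fun j a ha => by
    rw [Scheme.Hom.ker_apply, RingHom.mem_ker]
    change w.app (V j.1) a = 0
    have hcov : ∀ y ∈ w ⁻¹ᵁ V j.1, ∃ W : (∐ fun j => Spec (R j)).Opens, IsAffineOpen W ∧ y ∈ W ∧ W ≤ w ⁻¹ᵁ V j.1 := by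
      intro y hy
      obtain ⟨_, ⟨W, hW, rfl⟩, h1, h2⟩ :=
        (∐ fun j => Spec (R j)).isBasis_affineOpens.exists_subset_of_mem_open hy (w ⁻¹ᵁ V j.1).2
      exact ⟨W, hW, h1, h2⟩
    choose W hW hy hle using hcov
    refine (∐ fun j => Spec (R j)).sheaf.eq_of_locally_eq'
      (fun y : (w ⁻¹ᵁ V j.1 : (∐ fun j => Spec (R j)).Opens) => W y.1 y.2) (w ⁻¹ᵁ V j.1)
      (fun y => homOfLE (hle y.1 y.2)) (fun y hy' => Opens.mem_iSup.2 ⟨⟨y, hy'⟩, hy y hy'⟩) _ _ fun y => ?_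
    refine Eq.trans ?_ (map_zero _).symm
    change (w.appLE (V j.1) (W y.1 y.2) (hle y.1 y.2)) a = 0
    refine RingHom.mem_ker.1 ((hI j.1 _ _).1 ?_ ha)
    rw [IsAffineOpen.SpecMap_appLE_fromSpec w (hV j.1) (hW y.1 y.2)]
    exact hpull _ _ _ _ hPw
  refine ⟨w.image, w.imageι, inferInstance, fun T z => ⟨fun hz => ?_, ?_⟩⟩
  · have hfac : ∀ t : T, ∃ W : T.Opens, t ∈ W ∧ ∃ y : (W : Scheme.{u}) ⟶ w.image, y ≫ w.imageι = W.ι ≫ z := by
      intro t
      obtain ⟨j, hj, htj⟩ := Set.mem_iUnion₂.1 (hs (Set.mem_univ (z t)))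
      obtain ⟨_, ⟨W, hW, rfl⟩, h1, h2⟩ := T.isBasis_affineOpens.exists_subset_of_mem_open htj (z ⁻¹ᵁ V j).2
      have hk : I j ≤ RingHom.ker (z.appLE (V j) W h2).hom := by
        refine (hI j _ _).1 ?_
        rw [IsAffineOpen.SpecMap_appLE_fromSpec z (hV j) hW h2]
        exact hpull _ _ _ _ hz
      let e : R ⟨j, hj⟩ ⟶ Γ(T, W) := CommRingCat.ofHom (Ideal.Quotient.lift _ (z.appLE (V j) W h2).hom hk)
      have he : mk ⟨j, hj⟩ ≫ e = z.appLE (V j) W h2 := CommRingCat.hom_ext (RingHom.ext fun _ => rfl)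
      refine ⟨W, h1, hW.isoSpec.hom ≫ Spec.map e ≫ Limits.Sigma.ι (fun j => Spec (R j)) ⟨j, hj⟩ ≫ w.toImage, ?_⟩
      simp only [Category.assoc, Scheme.Hom.toImage_imageι]
      rw [Limits.Sigma.ι_desc, ← Category.assoc (Spec.map e), ← Spec.map_comp, he,
        IsAffineOpen.SpecMap_appLE_fromSpec z (hV j) hW h2, ← Category.assoc, IsAffineOpen.isoSpec_hom_fromSpec]
    choose W hW y hy using hfac
    let 𝒲 := T.openCoverOfIsOpenCover W (eq_top_iff.2 fun t _ => Opens.mem_iSup.2 ⟨t, hW t⟩)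
    refine ⟨𝒲.glueMorphisms y fun a b => (cancel_mono w.imageι).1 ?_, 𝒲.hom_ext _ _ fun a => ?_⟩
    · rw [Category.assoc, Category.assoc]
      erw [hy a, hy b]
      exact pullback.condition_assoc z
    · rw [Scheme.Cover.ι_glueMorphisms_assoc]
      exact hy a
  · rintro ⟨y, rfl⟩
    refine hpull _ _ _ _ (of_affine_local P hpull hloc _ fun p => ?_)
    obtain ⟨j, hj, hpj⟩ := Set.mem_iUnion₂.1 (hs (Set.mem_univ (w.imageι p)))
    obtain ⟨_, ⟨W, hW, rfl⟩, h1, h2⟩ :=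
      w.image.isBasis_affineOpens.exists_subset_of_mem_open hpj (w.imageι ⁻¹ᵁ V j).2
    refine ⟨W, hW, h1, ?_⟩
    rw [← IsAffineOpen.SpecMap_appLE_fromSpec w.imageι (hV j) hW h2]
    refine (hI j _ _).2 fun a ha => ?_
    have h3 : w.imageι.app (V j) a = 0 :=
      RingHom.mem_ker.1 ((Scheme.IdealSheafData.ker_subschemeι_app w.ker ⟨V j, hV j⟩).ge (hker ⟨j, hj⟩ ha))
    rw [RingHom.mem_ker, Scheme.Hom.appLE]
    change w.image.presheaf.map _ (w.imageι.app (V j) a) = 0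
    rw [h3, map_zero]

end Groth.ThetaRep
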