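import Mathlib
import Groth.Agent.ThetaRep.Locus
import Groth.Agent.ThetaRep.Closed
import Groth.Agent.ThetaAlg.GluePt
import Groth.Agent.Abvar.Mumford
import Groth.Agent.Abvar.Seesaw.Variety

/-!
Existence of the subgroup scheme `K(L)` of an abelian variety.
-/

set_option autoImplicit false

universe u

open CategoryTheory CategoryTheory.Limits MonoidalCategory CartesianMonoidalCategory MonObj GrpObj
open AlgebraicGeometry TopologicalSpace
open Groth.Abvar Groth.Abvar.PicCalc Groth.Abvar.Mumford Groth.Abvar.Seesaw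

noncomputable section

namespace Groth.ThetaRep

variable {k : Type u} [Field k] {A : Over (Spec (CommRingCat.of k))} [GrpObj A]

/-- The class of the Mumford bundle. -/
def mumCls (l : PicLoc.PicSet A.left) : PicLoc.PicSet (A ⊗ A).left :=
  opull (fst A A * snd A A) l * (opull (fst A A) l * opull (snd A A) l)⁻¹

theorem opull_mumCls (l : PicLoc.PicSet A.left) {T : Over (Spec (CommRingCat.of k))} (z : T ⟶ A) :
    opull (A ◁ z) (mumCls l) =
      opull (fst A T * (snd A T ≫ z)) l * (opull (fst A T) l * opull (snd A T ≫ z) l)⁻¹ := by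
  rw [mumCls, map_mul, map_inv, map_mul, ← opull_comp, ← opull_comp, ← opull_comp, MonObj.comp_mul,
    whiskerLeft_fst, whiskerLeft_snd]

theorem additive'_iff (l : PicLoc.PicSet A.left) {T : Over (Spec (CommRingCat.of k))} (z : T ⟶ A) :
    Additive' l z ↔ opull (A ◁ z) (mumCls l) = 1 := by
  rw [opull_mumCls, mul_inv_eq_one]
  rfl

theorem opull_section_mumCls (l : PicLoc.PicSet A.left) {T : Over (Spec (CommRingCat.of k))} (z : T ⟶ A) :
    opull (lift (1 : T ⟶ A) (𝟙 T)) (opull (A ◁ z) (mumCls l)) = 1 := by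
  rw [opull_mumCls, map_mul, map_inv, map_mul, opull_section_mul, opull_section_fst, ← opull_comp,
    lift_snd_assoc, Category.id_comp, _root_.one_mul, mul_inv_cancel]

/-- A morphism into `A` as a morphism over the base. -/
abbrev ptOver {T : Scheme.{u}} (z : T ⟶ A.left) : Over.mk (z ≫ A.hom) ⟶ A := Over.homMk z rfl

theorem ptOver_iff (l : PicLoc.PicSet A.left) {T : Over (Spec (CommRingCat.of k))} (z : T ⟶ A) :
    Additive' l z ↔ Additive' l (ptOver z.left) := by
  let e : T ⟶ Over.mk (z.left ≫ A.hom) := Over.homMk (𝟙 _) (by simp)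
  let e' : Over.mk (z.left ≫ A.hom) ⟶ T := Over.homMk (𝟙 _) (by simp)
  have h : e ≫ ptOver z.left = z := Over.OverMorphism.ext (Category.id_comp _)
  have h' : e' ≫ z = ptOver z.left := Over.OverMorphism.ext (Category.id_comp _)
  rw [additive'_iff, additive'_iff]
  constructor <;> intro hz
  · rw [← h', MonoidalCategory.whiskerLeft_comp, opull_comp, hz, map_one]
  · rw [← h, MonoidalCategory.whiskerLeft_comp, opull_comp, hz, map_one]

theorem additive'_pull (l : PicLoc.PicSet A.left) {T' T : Scheme.{u}} (f : T' ⟶ T) (z : T ⟶ A.left)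
    (h : Additive' l (ptOver z)) : Additive' l (ptOver (f ≫ z)) := by
  let f' : Over.mk ((f ≫ z) ≫ A.hom) ⟶ Over.mk (z ≫ A.hom) := Over.homMk f (Category.assoc _ _ _).symm
  have e : f' ≫ ptOver z = ptOver (f ≫ z) := Over.OverMorphism.ext rfl
  rw [additive'_iff] at h ⊢
  rw [← e, MonoidalCategory.whiskerLeft_comp, opull_comp, h, map_one]

variable [IsProper A.hom] [GeometricallyIntegral A.hom]

theorem app_bijective_of_square {P S : Scheme.{u}} {p : P ⟶ A.left} {π : P ⟶ S}
    {a : S ⟶ Spec (CommRingCat.of k)} (sq : IsPullback p π A.hom a) (V : S.Opens) :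
    Function.Bijective (π.app V) :=
  Groth.PicAux.SeesawAnyBase.app_bijective (R := CommRingCat.of k) A.hom sq V

theorem additive'_loc (l : PicLoc.PicSet A.left) {T : Scheme.{u}} (z : T ⟶ A.left)
    (𝒰 : Scheme.OpenCover.{u} T) (h : ∀ i, Additive' l (ptOver (𝒰.f i ≫ z))) : Additive' l (ptOver z) := by
  let T₀ : Over (Spec (CommRingCat.of k)) := Over.mk (z ≫ A.hom)
  obtain ⟨E, hE, hc⟩ := PicGrp.exists_eq_cls (opull (A ◁ ptOver z) (mumCls l))
  have sq : IsPullback (fst A T₀).left (snd A T₀).left A.hom T₀.hom := IsPullback.of_hasPullback A.hom T₀.hom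
  obtain ⟨N, hN, hiso⟩ := exists_base_of_local (snd A T₀).left (app_bijective_of_square sq) (L := E) fun t => by
    obtain ⟨i, u, rfl⟩ := 𝒰.exists_eq t
    let f' : Over.mk ((𝒰.f i ≫ z) ≫ A.hom) ⟶ T₀ := Over.homMk (𝒰.f i) (Category.assoc _ _ _).symm
    have sqi := Groth.ThetaAlg.isPullback_whiskerLeft A f'
    have : IsOpenImmersion (A ◁ f').left :=
      MorphismProperty.of_isPullback sqi.flip (inferInstanceAs (IsOpenImmersion (𝒰.f i)))
    have e : f' ≫ ptOver z = ptOver (𝒰.f i ≫ z) := Over.OverMorphism.ext rfl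
    have ht : Nonempty ((Scheme.Modules.pullback (A ◁ f').left).obj E ≅ Coh.structureModule _) := by
      rw [PicCalc.nonempty_iso_structure_iff (PicLoc.isInvertible_pullback _ hE), ← pull_cls _ hE]
      have h1 := (additive'_iff l _).1 (h i)
      rw [← e, MonoidalCategory.whiskerLeft_comp, opull_comp, hc] at h1
      exact h1
    obtain ⟨σ, hσ⟩ := exists_gen_image (A ◁ f').left E ⊤ (PicAux.nonempty_iso_structure_iff.1 ht)
    refine ⟨(𝒰.f i).opensRange, ⟨u, rfl⟩, ?_⟩
    have hle : (snd A T₀).left ⁻¹ᵁ (𝒰.f i).opensRange ≤ (A ◁ f').left ''ᵁ ⊤ := fun y hy => by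
      obtain ⟨v, hv⟩ := hy
      obtain ⟨w, hw, -⟩ := Scheme.exists_preimage_of_isPullback sqi y v hv.symm
      exact ⟨w, trivial, hw⟩
    exact ⟨_, hσ.res hle⟩
  have h1 : opull (A ◁ ptOver z) (mumCls l) = opull (snd A T₀) (cls hN) := by
    rw [hc]
    refine Eq.trans ?_ (pull_cls (snd A T₀).left hN).symm
    exact (nonempty_iso_iff hE _).1 ⟨hiso.some.symm⟩
  have h2 := opull_section_mumCls l (ptOver z)
  rw [h1, ← opull_comp, lift_snd, opull_id] at h2
  rw [additive'_iff, h1, h2, map_one]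

theorem additive'_near (l : PicLoc.PicSet A.left) (x : A.left) :
    ∃ (V : A.left.Opens) (hV : IsAffineOpen V) (I : Ideal Γ(A.left, V)), x ∈ V ∧
      ∀ (C : CommRingCat.{u}) (φ : Γ(A.left, V) ⟶ C),
        Additive' l (ptOver (Spec.map φ ≫ hV.fromSpec)) ↔ I ≤ RingHom.ker φ.hom := by
  obtain ⟨_, ⟨V, hV, rfl⟩, hxV, -⟩ :=
    A.left.isBasis_affineOpens.exists_subset_of_mem_open (Set.mem_univ x) isOpen_univ
  obtain ⟨p, rfl⟩ : x ∈ Set.range hV.fromSpec := by rw [hV.range_fromSpec]; exact hxV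
  have : IsLocallyNoetherian A.left := LocallyOfFiniteType.isLocallyNoetherian A.hom
  have : IsNoetherianRing Γ(A.left, V) := IsLocallyNoetherian.component_noetherian ⟨V, hV⟩
  let TR : Over (Spec (CommRingCat.of k)) := Over.mk (hV.fromSpec ≫ A.hom)
  let π : (A ⊗ TR).left ⟶ Spec (CommRingCat.of Γ(A.left, V)) := (snd A TR).left
  have sq : IsPullback (fst A TR).left π A.hom (hV.fromSpec ≫ A.hom) := IsPullback.of_hasPullback A.hom TR.hom
  have : IsProper π := MorphismProperty.of_isPullback sq ‹_›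
  have : Flat π := MorphismProperty.of_isPullback sq inferInstance
  have : LocallyOfFinitePresentation π := MorphismProperty.of_isPullback sq inferInstance
  have : GeometricallyReduced π := MorphismProperty.of_isPullback sq inferInstance
  have : GeometricallyConnected π := MorphismProperty.of_isPullback sq
    (Groth.PicAux.SeesawAnyBase.geometricallyConnected_of_integral A.hom)
  obtain ⟨E, hE, hc⟩ := PicGrp.exists_eq_cls (opull (A ◁ ptOver hV.fromSpec) (mumCls l))
  obtain ⟨h, I, hp, hI⟩ := exists_ideal_near π hE (fun C _ _ X g q s =>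
      (app_bijective_of_square (s.paste_horiz sq) ⊤).comp
        (ConcreteCategory.bijective_of_isIso (Scheme.ΓSpecIso (CommRingCat.of C)).inv))
    (Groth.PicAux.SeesawAnyBase.isClosed_fibTriv (R := CommRingCat.of k) A.hom sq hE) p
  let r := A.left.presheaf.map (homOfLE (A.left.basicOpen_le h)).op
  refine ⟨A.left.basicOpen h, hV.basicOpen h, I.map r.hom, ?_, fun C φ => ?_⟩
  · rw [← SetLike.mem_coe]
    have : p ∈ hV.fromSpec ⁻¹ᵁ A.left.basicOpen h := by
      rw [hV.fromSpec_preimage_basicOpen]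
      exact hp
    exact this
  let ψ : Γ(A.left, V) ⟶ C := r ≫ φ
  have hψ : Spec.map φ ≫ (hV.basicOpen h).fromSpec = Spec.map ψ ≫ hV.fromSpec := by
    rw [Spec.map_comp, Category.assoc, hV.map_fromSpec (hV.basicOpen h)]
  rw [hψ, Ideal.map_le_iff_le_comap, RingHom.comap_ker, ← CommRingCat.hom_comp]
  let TC : Over (Spec (CommRingCat.of k)) := Over.mk ((Spec.map ψ ≫ hV.fromSpec) ≫ A.hom)
  let f' : TC ⟶ TR := Over.homMk (Spec.map ψ) (Category.assoc _ _ _).symm
  letI : Algebra Γ(A.left, V) C := ψ.hom.toAlgebra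
  have hu : IsUnit (algebraMap Γ(A.left, V) C h) := by
    have := hV.isLocalization_basicOpen h
    exact (IsLocalization.Away.algebraMap_isUnit (S := Γ(A.left, A.left.basicOpen h)) h).map φ.hom
  refine Iff.trans ?_ (hI C (A ⊗ TC).left (A ◁ f').left (snd A TC).left
    (Groth.ThetaAlg.isPullback_whiskerLeft A f') hu)
  have e : f' ≫ ptOver hV.fromSpec = ptOver (Spec.map ψ ≫ hV.fromSpec) := Over.OverMorphism.ext rfl
  rw [additive'_iff, ← e, MonoidalCategory.whiskerLeft_comp, opull_comp, hc, PullTriv,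
    PicCalc.nonempty_iso_structure_iff (PicLoc.isInvertible_pullback _ hE), ← pull_cls _ hE]

/-- The subgroup scheme `K(L)` exists. -/
theorem exists_isKL {L : A.left.Modules} (hL : PicF.IsInvertible L) :
    ∃ (K : Over (Spec (CommRingCat.of k))) (i : K ⟶ A), ThetaGrp.IsKL A L i := by
  have : CompactSpace A.left := QuasiCompact.compactSpace_of_compactSpace A.hom
  have : QuasiSeparatedSpace A.left := quasiSeparatedSpace_of_quasiSeparated A.hom
  obtain ⟨Z, iZ, hiZ, hZ⟩ := exists_closed_rep (fun _ z => Additive' (cls hL) (ptOver z))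
    (fun _ _ f z h => additive'_pull _ f z h) (fun _ z 𝒰 h => additive'_loc _ z 𝒰 h)
    (additive'_near (cls hL))
  refine ⟨Over.mk (iZ ≫ A.hom), Over.homMk iZ rfl, ⟨hiZ, fun T z => ?_⟩⟩
  rw [isMumfordTriv_iff hL, ptOver_iff, hZ]
  constructor
  · rintro ⟨y, hy⟩
    exact ⟨Over.homMk y ((congrArg (y ≫ ·) rfl).trans
      ((Category.assoc y iZ A.hom).symm.trans ((congrArg (· ≫ A.hom) hy).trans (Over.w z)))),
      Over.OverMorphism.ext hy⟩
  · rintro ⟨y, hy⟩
    exact ⟨y.left, congrArg CommaMorphism.left hy⟩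

end Groth.ThetaRep
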