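import Mathlib
import Groth.Agent.ThetaAlg.GluePt
import Groth.Agent.ThetaAlg.Normal
import Groth.Agent.Reductive.Points

/-!
The charts `U × G_m` of the theta group over the opens of `K(L)` carrying a lift.
-/

set_option autoImplicit false

universe u

open CategoryTheory CategoryTheory.Limits MonoidalCategory CartesianMonoidalCategory MonObj GrpObj
open AlgebraicGeometry TopologicalSpace ThetaGrp Groth.ThetaAlg
open Pseudofunctor Bicategory

noncomputable section

namespace Groth.ThetaRep

variable {S : Scheme.{u}}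

/-- A subscheme through which all the points of the theta group factor, with local lifts. -/
structure Setup {A : Over S} [GrpObj A] (L : A.left.Modules) {K : Over S} (iK : K ⟶ A) : Prop where
  hA : SndBij A
  hL : PicF.IsInvertible L
  mono : Mono iK.left
  factors : ∀ (T : Over S) (x : T ⟶ A) (β : thetaPts A L T), IsOverPt β x → ∃ y : T ⟶ K, y ≫ iK = x
  locLift : ∀ p : K.left, ∃ U : K.left.Opens, p ∈ U ∧ ∃ b : thetaPts A L (opOver K U), IsOverPt b (opInc K U ≫ iK)

variable {A : Over S} [GrpObj A] {L : A.left.Modules} {K : Over S} {iK : K ⟶ A}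

theorem Setup.cancel (D : Setup L iK) {T : Over S} {y y' : T ⟶ K} (h : y ≫ iK = y' ≫ iK) : y = y' := by
  haveI := D.mono
  exact Over.OverMorphism.ext ((cancel_mono iK.left).1 (congrArg CommaMorphism.left h))

theorem opInc_cancel {T T' : Over S} {U : T.left.Opens} {a b : T' ⟶ opOver T U}
    (h : a ≫ opInc T U = b ≫ opInc T U) : a = b :=
  Over.OverMorphism.ext ((cancel_mono U.ι).1 (congrArg CommaMorphism.left h))

/-- The opens of `K` carrying a lift. -/
structure Idx (L : A.left.Modules) (iK : K ⟶ A) where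
  /-- the open -/
  U : K.left.Opens
  exists_lift : ∃ b : thetaPts A L (opOver K U), IsOverPt b (opInc K U ≫ iK)

instance : Preorder (Idx L iK) := Preorder.lift Idx.U

theorem exists_lift_of_le {V W : K.left.Opens} (h : W ≤ V)
    (hV : ∃ b : thetaPts A L (opOver K V), IsOverPt b (opInc K V ≫ iK)) :
    ∃ b : thetaPts A L (opOver K W), IsOverPt b (opInc K W ≫ iK) := by
  obtain ⟨b, hb⟩ := hV
  let g : opOver K W ⟶ opOver K V := Over.homMk (K.left.homOfLE h) (by simp)
  obtain ⟨b', hb', -⟩ := existsUnique_baseChange g b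
  have hg : g ≫ opInc K V = opInc K W := Over.OverMorphism.ext (K.left.homOfLE_ι h)
  refine ⟨b', ?_⟩
  rw [← hg, Category.assoc]
  exact isOverPt_baseChange hb' hb

/-- The meet of two opens carrying lifts. -/
def Idx.meet (i j : Idx L iK) : Idx L iK := ⟨i.U ⊓ j.U, exists_lift_of_le inf_le_left i.exists_lift⟩

/-- The chart over an open. -/
abbrev chart (i : Idx L iK) : Over S := opOver K i.U ⊗ Red.Gm S

/-- The point of `K` under a point of a chart. -/
abbrev chartK (i : Idx L iK) : chart i ⟶ K := fst (opOver K i.U) (Red.Gm S) ≫ opInc K i.U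

variable (D : Setup L iK)

include D in
theorem Setup.exists_univ (i : Idx L iK) : ∃ β : thetaPts A L (chart i), IsOverPt β (chartK i ≫ iK) ∧
    ∀ (T : Over S) (β' : thetaPts A L T) (y : T ⟶ opOver K i.U), IsOverPt β' ((y ≫ opInc K i.U) ≫ iK) →
      ∃! g : T ⟶ chart i, ThetaGrp.IsBaseChange β' g β := by
  obtain ⟨b, hb⟩ := i.exists_lift
  obtain ⟨b₁, hb₁, -⟩ := existsUnique_baseChange (fst (opOver K i.U) (Red.Gm S)) b
  have hb₁o : IsOverPt b₁ (chartK i ≫ iK) := by
    rw [Category.assoc]
    exact isOverPt_baseChange hb₁ hb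
  set t := Red.gmFn (snd (opOver K i.U) (Red.Gm S)) with ht
  have hinv : t * Red.gmFn (snd (opOver K i.U) (Red.Gm S))⁻¹ = 1 := by
    rw [mul_comm]
    exact Groth.Reductive.gmFn_inv_mul _
  haveI := isCart_sc (P := thetaObj A L (chart i)) (r := (snd A (chart i)).left.appTop t)
    (r' := (snd A (chart i)).left.appTop (Red.gmFn (snd (opOver K i.U) (Red.Gm S))⁻¹))
    (by rw [← map_mul, hinv, map_one]) b₁.1.hom
  obtain ⟨β, hβ, hβo⟩ := exists_pt (sc ((snd A (chart i)).left.appTop t) b₁.1.hom) (chartK i ≫ iK) hb₁o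
  refine ⟨β, hβo, fun T β' y hy => ?_⟩
  obtain ⟨b', hb', -⟩ := existsUnique_baseChange y b
  have hb'o : IsOverPt b' ((y ≫ opInc K i.U) ≫ iK) := by
    rw [Category.assoc]
    exact isOverPt_baseChange hb' hb
  obtain ⟨r, hr⟩ := exists_eq_sc (isInvertible_obj D.hL T) b'.1.hom β'.1.hom (hb'o.trans hy.symm)
  obtain ⟨r', hr'⟩ := exists_eq_sc (isInvertible_obj D.hL T) β'.1.hom b'.1.hom (hy.trans hb'o.symm)
  obtain ⟨s, rfl⟩ := (D.hA T).2 r
  obtain ⟨s', rfl⟩ := (D.hA T).2 r'
  have hss : s * s' = 1 := by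
    refine (D.hA T).1 ?_
    rw [map_mul, map_one]
    refine sc_injective (isInvertible_obj D.hL T) β'.1.hom ?_
    rw [sc_one, ← sc_sc, ← hr', ← hr]
  -- the value of the chart point along a morphism
  have key : ∀ (g : T ⟶ chart i), g ≫ fst (opOver K i.U) (Red.Gm S) = y →
      bcLift A L g ≫ β.1.hom =
        sc ((snd A T).left.appTop (Red.gmFn (g ≫ snd (opOver K i.U) (Red.Gm S)))) (b'.1.hom ≫ bcLift A L g) := by
    intro g hg
    rw [hβ, comp_sc]
    obtain ⟨c, hc, -⟩ := existsUnique_baseChange g b₁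
    have hcb : c = b' := (existsUnique_baseChange y b).unique (hg ▸ isBaseChange_comp hc hb₁) hb'
    unfold ThetaGrp.IsBaseChange at hc
    rw [← hc, hcb, Groth.Reductive.gmFn_comp]
    congr 1
    change ((snd A (chart i)).left.appTop ≫ (A ◁ g).left.appTop) t = (g.left.appTop ≫ (snd A T).left.appTop) t
    rw [← Scheme.Hom.comp_appTop, ← Scheme.Hom.comp_appTop, ← Over.comp_left, ← Over.comp_left, whiskerLeft_snd]
  let tU : Γ(T.left, ⊤)ˣ := ⟨s, s', hss, by rw [mul_comm, hss]⟩
  refine ⟨lift y (Groth.Reductive.gmMk T tU), ?_, fun g hg => ?_⟩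
  · change β'.1.hom ≫ bcLift A L _ = bcLift A L _ ≫ β.1.hom
    rw [key _ (lift_fst _ _), lift_snd, Groth.Reductive.gmFn_gmMk, ← sc_comp]
    exact congrArg (· ≫ bcLift A L _) hr
  · have hgy : g ≫ fst (opOver K i.U) (Red.Gm S) = y := by
      have h1 := isOverPt_baseChange hg hβo
      have h2 := isOverPt_unique h1 hy
      rw [← Category.assoc] at h2
      have h3 := D.cancel h2
      rw [← Category.assoc] at h3
      exact opInc_cancel h3
    apply CartesianMonoidalCategory.hom_ext
    · rw [lift_fst, hgy]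
    · rw [lift_snd]
      apply Groth.Reductive.gmFn_injective
      rw [Groth.Reductive.gmFn_gmMk]
      refine (D.hA T).1 ?_
      change β'.1.hom ≫ bcLift A L g = bcLift A L g ≫ β.1.hom at hg
      rw [key g hgy, hr, sc_comp] at hg
      exact (sc_injective (isInvertible_obj D.hL T) (b'.1.hom ≫ bcLift A L g) hg).symm

/-- The universal point on a chart. -/
def Setup.uCh (i : Idx L iK) : thetaPts A L (chart i) := (D.exists_univ i).choose

theorem Setup.uCh_over (i : Idx L iK) : IsOverPt (D.uCh i) (chartK i ≫ iK) := (D.exists_univ i).choose_spec.1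

theorem Setup.uCh_univ (i : Idx L iK) {T : Over S} {β' : thetaPts A L T} (y : T ⟶ opOver K i.U)
    (hy : IsOverPt β' ((y ≫ opInc K i.U) ≫ iK)) : ∃! g : T ⟶ chart i, ThetaGrp.IsBaseChange β' g (D.uCh i) :=
  (D.exists_univ i).choose_spec.2 T β' y hy

include D in
theorem Setup.chart_ext (i : Idx L iK) {T : Over S} {g g' : T ⟶ chart i} {β' : thetaPts A L T}
    (h : ThetaGrp.IsBaseChange β' g (D.uCh i)) (h' : ThetaGrp.IsBaseChange β' g' (D.uCh i)) : g = g' :=
  (D.uCh_univ i (g ≫ fst _ _) (by
    have := isOverPt_baseChange h (D.uCh_over i)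
    simpa [Category.assoc] using this)).unique h h'

/-- The inclusion of one open in a larger one, over the base. -/
abbrev opLe {i j : Idx L iK} (h : i ≤ j) : opOver K i.U ⟶ opOver K j.U :=
  Over.homMk (K.left.homOfLE h) (by simp)

theorem opLe_inc {i j : Idx L iK} (h : i ≤ j) : opLe h ≫ opInc K j.U = opInc K i.U :=
  Over.OverMorphism.ext (K.left.homOfLE_ι h)

include D in
theorem Setup.exists_trans {i j : Idx L iK} (h : i ≤ j) :
    ∃! g : chart i ⟶ chart j, ThetaGrp.IsBaseChange (D.uCh i) g (D.uCh j) := by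
  refine D.uCh_univ j (fst _ _ ≫ opLe h) ?_
  rw [Category.assoc (fst _ _), opLe_inc]
  exact D.uCh_over i

/-- The transition between charts. -/
def Setup.trans {i j : Idx L iK} (h : i ≤ j) : chart i ⟶ chart j := (D.exists_trans h).choose

theorem Setup.trans_spec {i j : Idx L iK} (h : i ≤ j) :
    ThetaGrp.IsBaseChange (D.uCh i) (D.trans h) (D.uCh j) := (D.exists_trans h).choose_spec.1

theorem isBaseChange_id {T : Over S} (u : thetaPts A L T) : ThetaGrp.IsBaseChange u (𝟙 T) u := by
  have h : bcLift A L (𝟙 T) = 𝟙 _ :=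
    cart_hom_ext (proj A L T) (by
      change (A ◁ 𝟙 T).left = 𝟙 _
      rw [MonoidalCategory.whiskerLeft_id, Over.id_left]) (by rw [bcLift_proj, Category.id_comp])
  unfold ThetaGrp.IsBaseChange
  rw [h, Category.id_comp, Category.comp_id]

theorem Setup.trans_id (i : Idx L iK) : D.trans (le_refl i) = 𝟙 (chart i) :=
  D.chart_ext i (D.trans_spec _) (isBaseChange_id _)

theorem Setup.trans_comp {i j l : Idx L iK} (h : i ≤ j) (h' : j ≤ l) :
    D.trans (h.trans h') = D.trans h ≫ D.trans h' :=
  D.chart_ext l (D.trans_spec _) (isBaseChange_comp (D.trans_spec h) (D.trans_spec h'))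

theorem Setup.trans_fst {i j : Idx L iK} (h : i ≤ j) :
    D.trans h ≫ fst _ _ = fst _ _ ≫ opLe h := by
  apply opInc_cancel
  have h1 := isOverPt_unique (isOverPt_baseChange (D.trans_spec h) (D.uCh_over j)) (D.uCh_over i)
  rw [← Category.assoc] at h1
  have h2 := D.cancel h1
  rw [Category.assoc, Category.assoc, opLe_inc]
  exact h2

theorem Setup.isPullback_trans {i j : Idx L iK} (h : i ≤ j) :
    IsPullback (fst (opOver K i.U) (Red.Gm S)).left (D.trans h).left (K.left.homOfLE h)
      (fst (opOver K j.U) (Red.Gm S)).left := by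
  have w : (fst (opOver K i.U) (Red.Gm S)).left ≫ K.left.homOfLE h =
      (D.trans h).left ≫ (fst (opOver K j.U) (Red.Gm S)).left :=
    (congrArg CommaMorphism.left (D.trans_fst h)).symm
  have ex : ∀ (Z : Scheme.{u}) (a : Z ⟶ (i.U : Scheme.{u})) (b : Z ⟶ (chart j).left),
      a ≫ K.left.homOfLE h = b ≫ (fst (opOver K j.U) (Red.Gm S)).left →
      ∃! m : Z ⟶ (chart i).left, m ≫ (fst (opOver K i.U) (Red.Gm S)).left = a ∧ m ≫ (D.trans h).left = b := by
    intro Z a b e
    let Zo : Over S := Over.mk (b ≫ (chart j).hom)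
    let bo : Zo ⟶ chart j := Over.homMk b rfl
    let ao : Zo ⟶ opOver K i.U := Over.homMk a (by
      change a ≫ i.U.ι ≫ K.hom = b ≫ (chart j).hom
      rw [← Over.w (fst (opOver K j.U) (Red.Gm S)), ← Category.assoc b, ← e, Category.assoc]
      change a ≫ i.U.ι ≫ K.hom = a ≫ K.left.homOfLE h ≫ j.U.ι ≫ K.hom
      rw [← Category.assoc (K.left.homOfLE h), Scheme.homOfLE_ι])
    have hao : ao ≫ opLe h = bo ≫ fst _ _ := Over.OverMorphism.ext e
    obtain ⟨β', hβ', -⟩ := existsUnique_baseChange bo (D.uCh j)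
    obtain ⟨g, hg, hgu⟩ := D.uCh_univ i ao (β' := β') (by
      have := isOverPt_baseChange hβ' (D.uCh_over j)
      have e2 : ao ≫ opInc K i.U = bo ≫ chartK j := by
        rw [← opLe_inc h, ← Category.assoc, hao, Category.assoc]
      rw [e2, Category.assoc]
      exact this)
    have hg1 : g ≫ D.trans h = bo := D.chart_ext j (isBaseChange_comp hg (D.trans_spec h)) hβ'
    have hg2 : g ≫ fst _ _ = ao := by
      apply opInc_cancel
      have e2 : ao ≫ opInc K i.U = bo ≫ chartK j := by
        rw [← opLe_inc h, ← Category.assoc, hao, Category.assoc]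
      rw [e2, ← hg1, Category.assoc, Category.assoc, ← Category.assoc (D.trans h), D.trans_fst,
        Category.assoc, opLe_inc]
    refine ⟨g.left, ⟨congrArg CommaMorphism.left hg2, congrArg CommaMorphism.left hg1⟩, fun m ⟨hm₁, hm₂⟩ => ?_⟩
    let mo : Zo ⟶ chart i := Over.homMk m (by
      change m ≫ (chart i).hom = b ≫ (chart j).hom
      rw [← Over.w (D.trans h), ← Category.assoc, hm₂])
    obtain ⟨β'', hβ'', -⟩ := existsUnique_baseChange mo (D.uCh i)
    have hmo : mo ≫ D.trans h = bo := Over.OverMorphism.ext hm₂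
    have hb'' : β'' = β' := (existsUnique_baseChange bo (D.uCh j)).unique
      (hmo ▸ isBaseChange_comp hβ'' (D.trans_spec h)) hβ'
    exact congrArg CommaMorphism.left (hgu mo (hb'' ▸ hβ''))
  refine ⟨⟨w⟩, ⟨PullbackCone.IsLimit.mk w (fun s => (ex _ s.fst s.snd s.condition).choose)
    (fun s => (ex _ s.fst s.snd s.condition).choose_spec.1.1)
    (fun s => (ex _ s.fst s.snd s.condition).choose_spec.1.2)
    fun s m h₁ h₂ => (ex _ s.fst s.snd s.condition).choose_spec.2 m ⟨h₁, h₂⟩⟩⟩

end Groth.ThetaRep
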