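import Mathlib
import Groth.Agent.ThetaRep.Chart

/-!
The glued scheme representing the theta group.
-/

set_option autoImplicit false

universe u

open CategoryTheory CategoryTheory.Limits MonoidalCategory CartesianMonoidalCategory MonObj GrpObj
open AlgebraicGeometry TopologicalSpace ThetaGrp Groth.ThetaAlg
open Pseudofunctor Bicategory

noncomputable section

namespace Groth.ThetaRep

variable {S : Scheme.{u}} {A : Over S} [GrpObj A] {L : A.left.Modules} {K : Over S} {iK : K ⟶ A}

theorem iSup_idx (D : Setup L iK) : TopologicalSpace.IsOpenCover (fun i : Idx L iK => i.U) := by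
  refine eq_top_iff.2 fun p _ => ?_
  obtain ⟨U, hp, hU⟩ := D.locLift p
  exact Opens.mem_iSup.2 ⟨⟨U, hU⟩, hp⟩

variable (D : Setup L iK)

/-- The cover of `K` by the opens carrying lifts. -/
@[simps! I₀ X f]
def Setup.cover : K.left.OpenCover := K.left.openCoverOfIsOpenCover (fun i : Idx L iK => i.U) (iSup_idx D)

instance : Preorder D.cover.I₀ := inferInstanceAs (Preorder (Idx L iK))

instance : Small.{u} D.cover.I₀ := small_self _

instance : D.cover.LocallyDirected where
  trans {i j} h := K.left.homOfLE (leOfHom h : (i : Idx L iK) ≤ j)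
  trans_id i := K.left.homOfLE_rfl _
  trans_comp {i j k} h h' := (K.left.homOfLE_homOfLE _ _).symm
  w {i j} h := K.left.homOfLE_ι _
  directed {i j} x := by
    let i' : Idx L iK := i
    let j' : Idx L iK := j
    have hl : (i'.meet j' : Idx L iK) ≤ i' := (inf_le_left : i'.U ⊓ j'.U ≤ i'.U)
    have hr : (i'.meet j' : Idx L iK) ≤ j' := (inf_le_right : i'.U ⊓ j'.U ≤ j'.U)
    have hx : (pullback.fst (D.cover.f i) (D.cover.f j) ≫ D.cover.f i) x ∈ i'.U ⊓ j'.U := by
      refine ⟨(pullback.fst (D.cover.f i) (D.cover.f j) x).2, ?_⟩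
      rw [pullback.condition]
      exact (pullback.snd (D.cover.f i) (D.cover.f j) x).2
    refine ⟨i'.meet j', homOfLE hl, homOfLE hr, ⟨_, hx⟩, ?_⟩
    have hm : Mono (pullback.fst (D.cover.f i) (D.cover.f j)) := inferInstance
    apply (pullback.fst (D.cover.f i) (D.cover.f j)).injective
    apply (D.cover.f i).injective
    simp only [← Scheme.Hom.comp_apply]
    erw [Category.assoc, pullback.lift_fst_assoc, Scheme.homOfLE_ι]
    rfl
  property_trans {i j} h := inferInstanceAs (IsOpenImmersion (K.left.homOfLE _))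

/-- The charts as a relative gluing datum. -/
def Setup.gluing : Scheme.Cover.RelativeGluingData D.cover where
  functor :=
    { obj := fun i => (chart (i : Idx L iK)).left
      map := fun {i j} h => (D.trans (leOfHom h : (i : Idx L iK) ≤ j)).left
      map_id := fun i => congrArg CommaMorphism.left (D.trans_id (i : Idx L iK))
      map_comp := fun {i j l} h h' => congrArg CommaMorphism.left
        (D.trans_comp (leOfHom h : (i : Idx L iK) ≤ j) (leOfHom h' : (j : Idx L iK) ≤ l)) }
  natTrans :=
    { app := fun i => (fst (opOver K (i : Idx L iK).U) (Red.Gm S)).left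
      naturality := fun {i j} h =>
        (D.isPullback_trans (leOfHom h : (i : Idx L iK) ≤ j)).w.symm }
  equifibered := fun {i j} h => (D.isPullback_trans (leOfHom h : (i : Idx L iK) ≤ j)).flip

/-- The group scheme, as a scheme over the base. -/
abbrev Setup.G : Over S := Over.mk (D.gluing.toBase ≫ K.hom)

/-- The projection to `K`. -/
def Setup.toK : D.G ⟶ K := Over.homMk D.gluing.toBase rfl

/-- The inclusion of a chart. -/
def Setup.emb (i : Idx L iK) : chart i ⟶ D.G :=
  Over.homMk (colimit.ι D.gluing.functor i) (by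
    change colimit.ι D.gluing.functor i ≫ D.gluing.toBase ≫ K.hom = _
    rw [D.gluing.ι_toBase_assoc]
    change (fst (opOver K i.U) (Red.Gm S)).left ≫ i.U.ι ≫ K.hom = _
    exact Over.w (fst (opOver K i.U) (Red.Gm S)))

theorem Setup.emb_toK (i : Idx L iK) : D.emb i ≫ D.toK = chartK i :=
  Over.OverMorphism.ext (D.gluing.ι_toBase i)

theorem Setup.trans_emb {i j : Idx L iK} (h : i ≤ j) : D.trans h ≫ D.emb j = D.emb i :=
  Over.OverMorphism.ext (colimit.w D.gluing.functor (homOfLE h : (i : D.cover.I₀) ⟶ j))

theorem Setup.emb_cancel (i : Idx L iK) {T : Over S} {a b : T ⟶ chart i} (h : a ≫ D.emb i = b ≫ D.emb i) :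
    a = b := by
  have : IsOpenImmersion (colimit.ι D.gluing.functor i) := inferInstanceAs (IsOpenImmersion (D.gluing.cover.f i))
  exact Over.OverMorphism.ext ((cancel_mono (colimit.ι D.gluing.functor i)).1 (congrArg CommaMorphism.left h))

/-- A morphism to the glued scheme over an indexed open factors through its chart. -/
theorem Setup.exists_emb (i : Idx L iK) {T : Over S} (g : T ⟶ D.G) (y : T ⟶ opOver K i.U)
    (h : g ≫ D.toK = y ≫ opInc K i.U) : ∃ a : T ⟶ chart i, a ≫ D.emb i = g := by
  have sq := D.gluing.isPullback_natTrans_ι_toBase (i : D.cover.I₀)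
  have e : y.left ≫ i.U.ι = g.left ≫ D.gluing.toBase := (congrArg CommaMorphism.left h).symm
  let a : T.left ⟶ (chart i).left := sq.lift y.left g.left e
  have ha : a ≫ colimit.ι D.gluing.functor i = g.left := sq.lift_snd _ _ _
  exact ⟨Over.homMk a (by rw [← Over.w (D.emb i), ← Category.assoc]; exact (congrArg (· ≫ D.G.hom) ha).trans (Over.w g)),
    Over.OverMorphism.ext ha⟩

/-- A morphism to `K` factors through an indexed open containing its image. -/
theorem exists_factor (i : Idx L iK) {T : Over S} (y : T ⟶ K) (h : ∀ z, y.left z ∈ i.U) :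
    ∃ y' : T ⟶ opOver K i.U, y' ≫ opInc K i.U = y := by
  have hle : Set.range y.left ⊆ Set.range i.U.ι := by
    rintro _ ⟨z, rfl⟩
    rw [Scheme.Opens.range_ι]
    exact h z
  refine ⟨Over.homMk (IsOpenImmersion.lift i.U.ι y.left hle) ?_,
    Over.OverMorphism.ext (IsOpenImmersion.lift_fac _ _ hle)⟩
  change IsOpenImmersion.lift i.U.ι y.left hle ≫ i.U.ι ≫ K.hom = T.hom
  rw [IsOpenImmersion.lift_fac_assoc, Over.w]

include D in
/-- Two chart morphisms define the same morphism to the glued scheme exactly when they pull back the same point. -/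
theorem Setup.emb_eq_iff {i j : Idx L iK} {T : Over S} (a : T ⟶ chart i) (b : T ⟶ chart j)
    {α β : thetaPts A L T} (ha : ThetaGrp.IsBaseChange α a (D.uCh i)) (hb : ThetaGrp.IsBaseChange β b (D.uCh j)) :
    α = β ↔ a ≫ D.emb i = b ≫ D.emb j := by
  -- both factor through the meet as soon as they lie over the same point of `K`
  have hl : i.meet j ≤ i := (inf_le_left : i.U ⊓ j.U ≤ i.U)
  have hr : i.meet j ≤ j := (inf_le_right : i.U ⊓ j.U ≤ j.U)
  have key : a ≫ chartK i = b ≫ chartK j → ∃ (g g' : T ⟶ chart (i.meet j)),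
      g ≫ D.trans hl = a ∧ g' ≫ D.trans hr = b ∧ ThetaGrp.IsBaseChange α g (D.uCh _) ∧
        ThetaGrp.IsBaseChange β g' (D.uCh _) := by
    intro e
    obtain ⟨y', hy'⟩ := exists_factor (i.meet j) (a ≫ chartK i) fun z => by
      refine ⟨((a ≫ fst _ _).left z).2, ?_⟩
      rw [e]
      exact ((b ≫ fst _ _).left z).2
    obtain ⟨g, hg, -⟩ := D.uCh_univ (i.meet j) y' (β' := α) (by
      rw [hy', Category.assoc]
      exact isOverPt_baseChange ha (D.uCh_over i))
    obtain ⟨g', hg', -⟩ := D.uCh_univ (i.meet j) y' (β' := β) (by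
      rw [hy', e, Category.assoc]
      exact isOverPt_baseChange hb (D.uCh_over j))
    exact ⟨g, g', D.chart_ext i (isBaseChange_comp hg (D.trans_spec hl)) ha,
      D.chart_ext j (isBaseChange_comp hg' (D.trans_spec hr)) hb, hg, hg'⟩
  constructor
  · rintro rfl
    have e : a ≫ chartK i = b ≫ chartK j := by
      have := isOverPt_unique (isOverPt_baseChange ha (D.uCh_over i)) (isOverPt_baseChange hb (D.uCh_over j))
      rw [← Category.assoc, ← Category.assoc b] at this
      exact D.cancel this
    obtain ⟨g, g', rfl, rfl, hg, hg'⟩ := key e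
    rw [D.chart_ext _ hg' hg, Category.assoc, Category.assoc, D.trans_emb, D.trans_emb]
  · intro e
    have e' : a ≫ chartK i = b ≫ chartK j := by
      rw [← D.emb_toK, ← D.emb_toK, ← Category.assoc, e, Category.assoc]
    obtain ⟨g, g', rfl, rfl, hg, hg'⟩ := key e'
    rw [Category.assoc, Category.assoc, D.trans_emb, D.trans_emb] at e
    obtain rfl := D.emb_cancel _ e
    exact (existsUnique_baseChange g (D.uCh _)).unique hg hg'

end Groth.ThetaRep
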