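import Mathlib
import Groth.Agent.ThetaRep.Glue

/-!
The glued scheme represents the theta group.
-/

set_option autoImplicit false

universe u

open CategoryTheory CategoryTheory.Limits MonoidalCategory CartesianMonoidalCategory MonObj GrpObj
open AlgebraicGeometry TopologicalSpace ThetaGrp Groth.ThetaAlg
open Pseudofunctor Bicategory

noncomputable section

namespace Groth.ThetaRep

variable {S : Scheme.{u}} {A : Over S} [GrpObj A] {L : A.left.Modules} {K : Over S} {iK : K ⟶ A}
variable (D : Setup L iK)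

theorem Setup.emb_isOpenImmersion (i : Idx L iK) : IsOpenImmersion (D.emb i).left :=
  inferInstanceAs (IsOpenImmersion (D.gluing.cover.f i))

/-- The open image of a chart. -/
def Setup.img (i : Idx L iK) : D.G.left.Opens :=
  haveI := D.emb_isOpenImmersion i
  (D.emb i).left.opensRange

theorem Setup.iSup_img : iSup D.img = ⊤ := by
  refine eq_top_iff.2 fun p _ => ?_
  obtain ⟨i, z, hz⟩ := D.gluing.cover.exists_eq p
  exact Opens.mem_iSup.2 ⟨i, z, hz⟩

theorem Setup.exists_retr (i : Idx L iK) :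
    ∃ r : opOver D.G (D.img i) ⟶ chart i, r ≫ D.emb i = opInc D.G (D.img i) := by
  haveI := D.emb_isOpenImmersion i
  have hle : Set.range (D.img i).ι ⊆ Set.range (D.emb i).left := by
    rw [Scheme.Opens.range_ι]
    exact subset_rfl
  refine ⟨Over.homMk (IsOpenImmersion.lift (D.emb i).left (D.img i).ι hle) ?_,
    Over.OverMorphism.ext (IsOpenImmersion.lift_fac _ _ hle)⟩
  change _ ≫ (chart i).hom = (D.img i).ι ≫ D.G.hom
  rw [← Over.w (D.emb i), ← Category.assoc, IsOpenImmersion.lift_fac]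

theorem Setup.exists_sect (i : Idx L iK) :
    ∃ e : chart i ⟶ opOver D.G (D.img i), e ≫ opInc D.G (D.img i) = D.emb i := by
  haveI := D.emb_isOpenImmersion i
  have hle : Set.range (D.emb i).left ⊆ Set.range (D.img i).ι := by
    rw [Scheme.Opens.range_ι]
    exact subset_rfl
  refine ⟨Over.homMk (IsOpenImmersion.lift (D.img i).ι (D.emb i).left hle) ?_,
    Over.OverMorphism.ext (IsOpenImmersion.lift_fac _ _ hle)⟩
  change IsOpenImmersion.lift (D.img i).ι (D.emb i).left hle ≫ (D.img i).ι ≫ D.G.hom = _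
  rw [IsOpenImmersion.lift_fac_assoc, Over.w]

theorem Setup.exists_univ_pt : ∃ u : thetaPts A L D.G, IsOverPt u (D.toK ≫ iK) ∧
    ∀ i, ThetaGrp.IsBaseChange (D.uCh i) (D.emb i) u := by
  choose r hr using fun i => D.exists_retr i
  choose w hw hw' using fun i => existsUnique_baseChange (r i) (D.uCh i)
  have hx : ∀ i, IsOverPt (w i) (opInc D.G (D.img i) ≫ D.toK ≫ iK) := fun i => by
    have h := isOverPt_baseChange (hw i) (D.uCh_over i)
    rw [← D.emb_toK, ← Category.assoc, ← Category.assoc, hr] at h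
    simpa [Category.assoc] using h
  obtain ⟨u, hu, hub⟩ := exists_glue_pt D.hA D.hL D.img D.iSup_img (D.toK ≫ iK) w hx
    (fun T i j p q hpq a b ha hb =>
      (D.emb_eq_iff _ _ (isBaseChange_comp ha (hw i)) (isBaseChange_comp hb (hw j))).2 (by
        rw [Category.assoc, Category.assoc, hr, hr, hpq]))
  refine ⟨u, hu, fun i => ?_⟩
  obtain ⟨e, he⟩ := D.exists_sect i
  obtain ⟨cc, hcc, -⟩ := existsUnique_baseChange e (w i)
  have h1 : e ≫ r i = 𝟙 _ := D.emb_cancel i (by rw [Category.assoc, hr, he, Category.id_comp])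
  have h2 : cc = D.uCh i := (existsUnique_baseChange (𝟙 _) (D.uCh i)).unique
    (h1 ▸ isBaseChange_comp hcc (hw i)) (isBaseChange_id _)
  exact h2 ▸ he ▸ isBaseChange_comp hcc (hub i)

/-- The universal point. -/
def Setup.univPt : thetaPts A L D.G := D.exists_univ_pt.choose

theorem Setup.univPt_over : IsOverPt D.univPt (D.toK ≫ iK) := D.exists_univ_pt.choose_spec.1

theorem Setup.univPt_emb (i : Idx L iK) : ThetaGrp.IsBaseChange (D.uCh i) (D.emb i) D.univPt :=
  D.exists_univ_pt.choose_spec.2 i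

theorem Setup.univ (T : Over S) (β : thetaPts A L T) : ∃! g : T ⟶ D.G, ThetaGrp.IsBaseChange β g D.univPt := by
  obtain ⟨x, hx⟩ := exists_isOverPt β
  obtain ⟨y, hy⟩ := D.factors T x β hx
  let V : Idx L iK → T.left.Opens := fun i => y.left ⁻¹ᵁ i.U
  have hV : iSup V = ⊤ := by
    refine eq_top_iff.2 fun p _ => ?_
    obtain ⟨U, hp, hU⟩ := D.locLift (y.left p)
    exact Opens.mem_iSup.2 ⟨⟨U, hU⟩, hp⟩
  have hfac : ∀ i, ∃ y' : opOver T (V i) ⟶ opOver K i.U, y' ≫ opInc K i.U = opInc T (V i) ≫ y :=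
    fun i => exists_factor i _ fun z => z.2
  choose y' hy' using hfac
  choose b hb hb' using fun i => existsUnique_baseChange (opInc T (V i)) β
  have hbo : ∀ i, IsOverPt (b i) ((y' i ≫ opInc K i.U) ≫ iK) := fun i => by
    rw [hy', Category.assoc, hy]
    exact isOverPt_baseChange (hb i) hx
  choose g hg hg' using fun i => D.uCh_univ i (y' i) (hbo i)
  have hcompat : ∀ (T' : Over S) (i j : Idx L iK) (p : T' ⟶ opOver T (V i)) (q : T' ⟶ opOver T (V j)),
      p ≫ opInc T (V i) = q ≫ opInc T (V j) → p ≫ g i ≫ D.emb i = q ≫ g j ≫ D.emb j := by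
    intro T' i j p q hpq
    obtain ⟨a, ha, -⟩ := existsUnique_baseChange p (b i)
    have ha' : ThetaGrp.IsBaseChange a q (b j) := by
      obtain ⟨a', h', -⟩ := existsUnique_baseChange q (b j)
      have e1 := isBaseChange_comp ha (hb i)
      rw [hpq] at e1
      have e2 : a = a' := (existsUnique_baseChange _ β).unique e1 (isBaseChange_comp h' (hb j))
      rw [e2]
      exact h'
    rw [← Category.assoc, ← Category.assoc]
    exact (D.emb_eq_iff _ _ (isBaseChange_comp ha (hg i)) (isBaseChange_comp ha' (hg j))).1 rfl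
  obtain ⟨G₀, hG₀⟩ : ∃ G₀ : T ⟶ D.G, ∀ i, opInc T (V i) ≫ G₀ = g i ≫ D.emb i := by
    let 𝒱 := T.left.openCoverOfIsOpenCover V hV
    let m : T.left ⟶ D.G.left := 𝒱.glueMorphisms (fun i => (g i ≫ D.emb i).left) (by
      intro i j
      let T' : Over S := Over.mk (pullback.fst (𝒱.f i) (𝒱.f j) ≫ (V i).ι ≫ T.hom)
      let p : T' ⟶ opOver T (V i) := Over.homMk (pullback.fst (𝒱.f i) (𝒱.f j)) rfl
      let q : T' ⟶ opOver T (V j) := Over.homMk (pullback.snd (𝒱.f i) (𝒱.f j))
        (pullback.condition_assoc T.hom).symm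
      exact congrArg CommaMorphism.left (hcompat T' i j p q (Over.OverMorphism.ext pullback.condition)))
    have hm : ∀ i, (V i).ι ≫ m = (g i ≫ D.emb i).left := fun i => 𝒱.ι_glueMorphisms _ _ i
    refine ⟨Over.homMk m ?_, fun i => Over.OverMorphism.ext (hm i)⟩
    refine 𝒱.hom_ext _ _ fun i => ?_
    change (V i).ι ≫ m ≫ D.G.hom = (V i).ι ≫ T.hom
    rw [← Category.assoc, hm]
    exact Over.w (g i ≫ D.emb i)
  refine ⟨G₀, ?_, fun G' hG' => ?_⟩
  · obtain ⟨β₀, hβ₀, -⟩ := existsUnique_baseChange G₀ D.univPt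
    suffices h : β = β₀ by exact h ▸ hβ₀
    have hres : ∀ i, ThetaGrp.IsBaseChange (b i) (opInc T (V i)) β₀ := fun i => by
      obtain ⟨c, hc, -⟩ := existsUnique_baseChange (opInc T (V i)) β₀
      have h1 := isBaseChange_comp hc hβ₀
      rw [hG₀] at h1
      rwa [(existsUnique_baseChange _ D.univPt).unique (isBaseChange_comp (hg i) (D.univPt_emb i)) h1]
    have hx₀ : IsOverPt β₀ x := by
      have h1 := isOverPt_baseChange hβ₀ D.univPt_over
      suffices h2 : G₀ ≫ D.toK = y by
        rw [← Category.assoc, h2, hy] at h1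
        exact h1
      refine Over.OverMorphism.ext ((T.left.openCoverOfIsOpenCover V hV).hom_ext _ _ fun i => ?_)
      change (opInc T (V i) ≫ G₀ ≫ D.toK).left = (opInc T (V i) ≫ y).left
      rw [← Category.assoc, hG₀, Category.assoc, D.emb_toK, ← hy', ← Category.assoc]
      congr 1
      refine congrArg (· ≫ opInc K i.U) ?_
      have h3 := isOverPt_unique (isOverPt_baseChange (hg i) (D.uCh_over i)) (hbo i)
      rw [← Category.assoc, ← Category.assoc] at h3
      exact opInc_cancel (D.cancel h3)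
    refine pts_ext ?_
    refine hom_ext_of_cover D.hA D.hL V hV _ _ (hx.trans hx₀.symm) fun i => ?_
    exact cart_hom_ext (proj A L T) (by
      change _ ≫ _ = _ ≫ _
      rw [hx.trans hx₀.symm]) (congrArg (· ≫ proj A L T) ((hb i).symm.trans (hres i)))
  · obtain ⟨β₀, hβ₀, -⟩ := existsUnique_baseChange G₀ D.univPt
    have hyG : G' ≫ D.toK = y := D.cancel (by
      rw [Category.assoc, hy]
      exact isOverPt_unique (isOverPt_baseChange hG' D.univPt_over) hx)
    refine Over.OverMorphism.ext ((T.left.openCoverOfIsOpenCover V hV).hom_ext _ _ fun i => ?_)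
    change (opInc T (V i) ≫ G').left = (opInc T (V i) ≫ G₀).left
    congr 1
    rw [hG₀]
    obtain ⟨a, ha⟩ := D.exists_emb i (opInc T (V i) ≫ G') (y' i) (by rw [Category.assoc, hyG, hy'])
    obtain ⟨cc, hcc, -⟩ := existsUnique_baseChange a (D.uCh i)
    have h1 : cc = b i := (existsUnique_baseChange _ D.univPt).unique
      (ha ▸ isBaseChange_comp hcc (D.univPt_emb i)) (isBaseChange_comp (hb i) hG')
    rw [h1] at hcc
    rw [← ha]
    exact congrArg (· ≫ D.emb i) (D.chart_ext i hcc (hg i))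

end Groth.ThetaRep
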