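import Mathlib
import Groth.Agent.ThetaRep.Universal

/-!
The representing scheme as a group scheme.
-/

set_option autoImplicit false

universe u

open CategoryTheory CategoryTheory.Limits MonoidalCategory CartesianMonoidalCategory MonObj GrpObj
open AlgebraicGeometry TopologicalSpace ThetaGrp Groth.ThetaAlg Opposite
open Pseudofunctor Bicategory

noncomputable section

namespace Groth.ThetaRep

variable {S : Scheme.{u}} (A : Over S) [GrpObj A] (L : A.left.Modules)

/-- Base change as a group homomorphism. -/
def bcHom {T T' : Over S} (f : T' ⟶ T) : thetaPts A L T →* thetaPts A L T' where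
  toFun β := (existsUnique_baseChange f β).choose
  map_one' := ((existsUnique_baseChange f (1 : thetaPts A L T)).unique
    (existsUnique_baseChange f _).choose_spec.1 ((Category.id_comp _).trans (Category.comp_id _).symm))
  map_mul' α β := (existsUnique_baseChange f (α * β)).unique (existsUnique_baseChange f _).choose_spec.1
    (isBaseChange_mul (existsUnique_baseChange f α).choose_spec.1 (existsUnique_baseChange f β).choose_spec.1)

theorem bcHom_spec {T T' : Over S} (f : T' ⟶ T) (β : thetaPts A L T) :
    ThetaGrp.IsBaseChange (bcHom A L f β) f β := (existsUnique_baseChange f β).choose_spec.1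

theorem bcHom_eq {T T' : Over S} {f : T' ⟶ T} {β : thetaPts A L T} {β' : thetaPts A L T'}
    (h : ThetaGrp.IsBaseChange β' f β) : bcHom A L f β = β' :=
  (existsUnique_baseChange f β).unique (bcHom_spec A L f β) h

/-- The functor of points of the theta group. -/
def thetaFunctor : (Over S)ᵒᵖ ⥤ GrpCat.{u} where
  obj T := GrpCat.of (thetaPts A L T.unop)
  map f := GrpCat.ofHom (bcHom A L f.unop)
  map_id T := GrpCat.hom_ext (MonoidHom.ext fun β => bcHom_eq A L (isBaseChange_id β))
  map_comp f g := GrpCat.hom_ext (MonoidHom.ext fun β =>
    bcHom_eq A L (isBaseChange_comp (bcHom_spec A L g.unop (bcHom A L f.unop β)) (bcHom_spec A L f.unop β)))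

variable {A L} {K : Over S} {iK : K ⟶ A} (D : Setup L iK)

/-- The glued scheme represents the functor of points. -/
def Setup.repBy : (thetaFunctor A L ⋙ forget _).RepresentableBy D.G where
  homEquiv {T} :=
    { toFun := fun g => bcHom A L g D.univPt
      invFun := fun β => (D.univ T β).choose
      left_inv := fun g => ((D.univ T _).unique (D.univ T _).choose_spec.1 (bcHom_spec A L g D.univPt))
      right_inv := fun β => bcHom_eq A L (D.univ T β).choose_spec.1 }
  homEquiv_comp f g :=
    bcHom_eq A L (isBaseChange_comp (bcHom_spec A L f (bcHom A L g D.univPt)) (bcHom_spec A L g D.univPt))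

/-- A scheme with a monomorphism through which all the points factor, and with local lifts, gives representability. -/
theorem exists_isThetaGrpSch_of_setup (D : Setup L iK) :
    ∃ (G : Over S) (_ : GrpObj G) (u : thetaPts A L G), ThetaGrp.IsThetaGrpSch A L G u := by
  let inst : GrpObj D.G := GrpObj.ofRepresentableBy D.G (thetaFunctor A L) D.repBy
  refine ⟨D.G, inst, D.univPt, ⟨D.univ, fun T g => existsUnique_baseChange g D.univPt,
    fun T g h β₁ β₂ h₁ h₂ => ?_⟩⟩
  have key : D.repBy.homEquiv (g * h) = (D.repBy.homEquiv g * D.repBy.homEquiv h : thetaPts A L T) :=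
    ((yonedaGrpObjIsoOfRepresentableBy D.G (thetaFunctor A L) D.repBy).hom.app (op T)).hom.map_mul g h
  have e1 : (D.repBy.homEquiv g : thetaPts A L T) = β₁ := bcHom_eq A L h₁
  have e2 : (D.repBy.homEquiv h : thetaPts A L T) = β₂ := bcHom_eq A L h₂
  rw [e1, e2] at key
  exact (congrArg (fun c : thetaPts A L T => ThetaGrp.IsBaseChange c (g * h) D.univPt) key).mp
    (bcHom_spec A L (g * h) D.univPt)

end Groth.ThetaRep
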